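import Cfsg.Agent.H200.LinFixC

/-!
# `p`-groups all of whose elements of order `p` have an irreducible commutator space are cyclic (helper193, S5734)
-/

set_option autoImplicit false
set_option linter.unusedSectionVars false

namespace Cfsg.Agent.H193.Dg

open Module Cfsg.Agent.H200.LinFix

variable {p : ℕ} [hp : Fact p.Prime]

theorem exists_ord {Γ : Type*} [Group Γ] [Finite Γ] (hΓ : IsPGroup p Γ) {N : Subgroup Γ} (hN : N ≠ ⊥) :
    ∃ z ∈ N, z ^ p = 1 ∧ z ≠ 1 := by
  obtain ⟨z, hz⟩ := exists_prime_orderOf_dvd_card' p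
    ((hΓ.to_subgroup N).card_eq_or_dvd.resolve_left (by
      intro h
      exact hN (Subgroup.card_eq_one.1 h)))
  refine ⟨z, z.2, ?_, ?_⟩
  · have h := congrArg Subtype.val (pow_orderOf_eq_one z)
    rw [hz] at h
    exact h
  · intro h
    have h1 : z = 1 := Subtype.ext h
    rw [h1, orderOf_one] at hz
    exact hp.out.one_lt.ne hz

variable {F V : Type*} [Field F] [AddCommGroup V] [Module F V] [Finite V] {d : ℕ}

theorem isCyclic_of_R {Γ : Type*} [Group Γ] [Finite Γ] (hΓ : IsPGroup p Γ) (ρ : Γ →* Module.End F V)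
    (hρ : Function.Injective ρ) (hd : Ordd p (Nat.card F) d) (hd0 : 0 < d) (hpF : (p : F) ≠ 0)
    (hR : ∀ γ : Γ, γ ^ p = 1 → γ ≠ 1 → finrank F (R (ρ γ)) = d) : IsCyclic Γ := by
  rcases subsingleton_or_nontrivial Γ with hs | hs
  · exact isCyclic_of_subsingleton
  have hc : Nontrivial (Subgroup.center Γ) := hΓ.center_nontrivial
  obtain ⟨z, hzc, hzp, hz1⟩ := exists_ord hΓ ((Subgroup.nontrivial_iff_ne_bot _).1 hc)
  have hfin : FiniteDimensional F V := Module.Finite.of_finite
  set g := ρ z with hg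
  have hgp : g ^ p = 1 := by rw [hg, ← map_pow, hzp, map_one]
  have hcomm : ∀ γ : Γ, ρ γ * g = g * ρ γ := by
    intro γ
    rw [hg, ← map_mul, ← map_mul, (Subgroup.mem_center_iff.1 hzc γ)]
  let ρ' : Γ →* Module.End F (R g) :=
    { toFun := fun γ => (ρ γ).restrict (fun w hw => R_inv (hcomm γ) hw)
      map_one' := by ext w; simp
      map_mul' := fun a b => by ext w; simp [Module.End.mul_apply] }
  have hρ' : ∀ (γ : Γ) (w : R g), ((ρ' γ w : R g) : V) = ρ γ w := fun γ w => rfl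
  refine isCyclic_of hΓ ρ' ?_ hd hpF (by rw [hR z hzp hz1]; omega)
  rw [← MonoidHom.ker_eq_bot_iff]
  by_contra hne
  obtain ⟨h, hhk, hhp, hh1⟩ := exists_ord hΓ hne
  have htriv : ∀ w ∈ R g, ρ h w = w := by
    intro w hw
    have h1 := congrArg (fun f : Module.End F (R g) => ((f ⟨w, hw⟩ : R g) : V)) (MonoidHom.mem_ker.1 hhk)
    exact h1
  have hyp : (ρ h) ^ p = 1 := by rw [← map_pow, hhp, map_one]
  have hzh : (z * h) ^ p = 1 := by
    have hc : Commute z h := (Subgroup.mem_center_iff.1 hzc h).symm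
    rw [hc.mul_pow, hzp, hhp, one_mul]
  have hzh1 : z * h ≠ 1 := by
    intro h1
    have h2 : ρ z * ρ h = 1 := by rw [← map_mul, h1, map_one]
    apply hz1
    apply hρ
    rw [map_one, ← hg, ← R_eq_bot, Submodule.eq_bot_iff]
    intro w hw
    have h3 := LinearMap.congr_fun h2 w
    rw [Module.End.mul_apply, htriv w hw] at h3
    exact eq_zero_of_mem hgp hpF h3 hw
  set t := ρ (z * h) with ht
  have htp : t ^ p = 1 := by rw [ht, ← map_pow, hzh, map_one]
  have htv : ∀ v, t v = g (ρ h v) := fun v => by rw [ht, map_mul]; rfl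
  have hle : R g ≤ R t := by
    intro v hv
    obtain ⟨w, rfl⟩ := hv
    obtain ⟨k, hk, r, hr, rfl⟩ := decomp hgp hpF w
    refine ⟨r, ?_⟩
    change t r - r = g (k + r) - (k + r)
    rw [htv, htriv r hr, map_add, mem_K.1 hk]
    abel
  have heq : R g = R t := Submodule.eq_of_le_of_finrank_eq hle (by rw [hR z hzp hz1, ht, hR _ hzh hzh1])
  apply hh1
  apply hρ
  rw [map_one, ← R_eq_bot, Submodule.eq_bot_iff]
  intro v hv
  refine eq_zero_of_mem hyp hpF (htriv v ?_) hv
  obtain ⟨w, rfl⟩ := hv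
  obtain ⟨k, hk, r, hr, rfl⟩ := decomp htp hpF w
  rw [← heq] at hr
  change ρ h (k + r) - (k + r) ∈ R g
  have h5 : g (ρ h k) = k := by rw [← htv, mem_K.1 hk]
  have h6 : ρ h (k + r) - (k + r) = -(g (ρ h k) - ρ h k) := by
    rw [h5, map_add, htriv r hr]
    abel
  rw [h6]
  exact Submodule.neg_mem _ (sub_mem_R g _)

end Cfsg.Agent.H193.Dg
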